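import Cfsg.Agent.Spor.He8330.D0

set_option autoImplicit false
set_option maxRecDepth 100000000
set_option Elab.async false

namespace Cfsg.Agent.Spor.He8330

theorem ok0 : Net.okb 14 n0 = true := by decide +kernel

theorem ok1 : Net.okb 14 n1 = true := by decide +kernel

theorem ok2 : Net.okb 14 n2 = true := by decide +kernel

theorem ok3 : Net.okb 14 n3 = true := by decide +kernel

theorem ok4 : Net.okb 14 n4 = true := by decide +kernel

theorem ok5 : Net.okb 14 n5 = true := by decide +kernel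

theorem ok6 : Net.okb 14 n6 = true := by decide +kernel

theorem ok7 : Net.okb 14 n7 = true := by decide +kernel

theorem ok8 : Net.okb 14 n8 = true := by decide +kernel

theorem ok9 : Net.okb 14 n9 = true := by decide +kernel

theorem rel0 : T.rel 14 [1, 1] 0 14 = true := by decide +kernel

theorem rel1 : T.rel 14 [2, 2] 0 14 = true := by decide +kernel

theorem rel2 : T.rel 14 [3, 3] 0 14 = true := by decide +kernel

theorem rel3 : T.rel 14 [4, 4] 0 14 = true := by decide +kernel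

theorem rel4 : T.rel 14 [5, 5] 0 14 = true := by decide +kernel

theorem rel5 : T.rel 14 [6, 6] 0 14 = true := by decide +kernel

theorem rel6 : T.rel 14 [7, 7] 0 14 = true := by decide +kernel

theorem rel7 : T.rel 14 [8, 2, 3, 4, 6, 5, 4, 3] 0 14 = true := by decide +kernel

theorem rel8 : T.rel 14 [10, 9, 4, 5, 2, 3, 4, 3, 4, 9, 2] 0 14 = true := by decide +kernel

theorem rel9 : T.rel 14 [12, 1, 2, 1, 2] 0 14 = true := by decide +kernel

theorem rel10 : T.rel 14 [2, 1, 2, 1, 2, 1, 2, 1] 0 14 = true := by decide +kernel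

theorem rel11 : T.rel 14 [3, 1, 3, 1] 0 14 = true := by decide +kernel

theorem rel12 : T.rel 14 [4, 1, 4, 1] 0 14 = true := by decide +kernel

theorem rel13 : T.rel 14 [5, 1, 5, 1] 0 14 = true := by decide +kernel

theorem rel14 : T.rel 14 [6, 1, 6, 1] 0 14 = true := by decide +kernel

theorem rel15 : T.rel 14 [7, 1, 7, 1] 0 14 = true := by decide +kernel

theorem rel16 : T.rel 14 [3, 2, 3, 2, 3, 2] 0 14 = true := by decide +kernel

theorem rel17 : T.rel 14 [4, 2, 4, 2] 0 14 = true := by decide +kernel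

theorem rel18 : T.rel 14 [5, 2, 5, 2] 0 14 = true := by decide +kernel

theorem rel19 : T.rel 14 [6, 2, 6, 2] 0 14 = true := by decide +kernel

theorem rel20 : T.rel 14 [7, 2, 7, 2] 0 14 = true := by decide +kernel

theorem rel21 : T.rel 14 [4, 3, 4, 3, 4, 3, 4, 3, 4, 3, 4, 3, 4, 3, 4, 3, 4, 3, 4, 3] 0 14 = true := by decide +kernel

theorem rel22 : T.rel 14 [5, 3, 5, 3] 0 14 = true := by decide +kernel

theorem rel23 : T.rel 14 [6, 3, 6, 3] 0 14 = true := by decide +kernel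

theorem rel24 : T.rel 14 [7, 3, 7, 3] 0 14 = true := by decide +kernel

theorem rel25 : T.rel 14 [5, 4, 5, 4, 5, 4] 0 14 = true := by decide +kernel

theorem rel26 : T.rel 14 [6, 4, 6, 4, 6, 4] 0 14 = true := by decide +kernel

theorem rel27 : T.rel 14 [7, 4, 7, 4, 7, 4] 0 14 = true := by decide +kernel

theorem rel28 : T.rel 14 [6, 5, 6, 5] 0 14 = true := by decide +kernel

theorem rel29 : T.rel 14 [7, 5, 7, 5] 0 14 = true := by decide +kernel

theorem rel30 : T.rel 14 [7, 6, 7, 6, 7, 6, 7, 6] 0 14 = true := by decide +kernel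

theorem rel31 : T.rel 14 [6, 7, 6, 7, 5] 0 14 = true := by decide +kernel

theorem rel32 : T.rel 14 [1, 2, 3, 1, 2, 3, 1, 2, 3, 5] 0 14 = true := by decide +kernel

theorem rel33 : T.rel 14 [3, 4, 3, 4, 3, 4, 3, 4, 3, 4, 1] 0 14 = true := by decide +kernel

theorem rel34 : T.rel 14 [7, 6, 4, 3, 7, 6, 4, 3, 7, 6, 4, 3, 7, 6, 4, 3] 0 14 = true := by decide +kernel

theorem hcov : T.treeCov (ones 8330) L 1 = true := by decide +kernel

theorem hg : lall (fun z => band (memL L z) (band (sub (ones 8330) (T.let z).cl) (T.closed (ones 8330) z))) gs = true := by decide +kernel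

theorem rot1_1 : T.rot 1 [1] (sel (ones 8330) ip1 1) = true := by decide +kernel

theorem rot1_1r : band (Rule.ok (2 * 7) EX RL ⟨1 :: [1], [], 25, false⟩) (lall (memL L) [1]) = true := by decide +kernel

theorem rot1_2 : T.rot 1 [3, 1, 3] (sel (ones 8330) ip1 2) = true := by decide +kernel

theorem rot1_2r : band (Rule.ok (2 * 7) EX RL ⟨1 :: [3, 1, 3], [], 1, false⟩) (lall (memL L) [3, 1, 3]) = true := by decide +kernel

theorem rot1_3 : T.rot 1 [4, 1, 4] (sel (ones 8330) ip1 3) = true := by decide +kernel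

theorem rot1_3r : band (Rule.ok (2 * 7) EX RL ⟨1 :: [4, 1, 4], [], 2, false⟩) (lall (memL L) [4, 1, 4]) = true := by decide +kernel

theorem rot1_4 : T.rot 1 [5, 1, 5] (sel (ones 8330) ip1 4) = true := by decide +kernel

theorem rot1_4r : band (Rule.ok (2 * 7) EX RL ⟨1 :: [5, 1, 5], [], 3, false⟩) (lall (memL L) [5, 1, 5]) = true := by decide +kernel

theorem rot1_5 : T.rot 1 [6, 1, 6] (sel (ones 8330) ip1 5) = true := by decide +kernel

theorem rot1_5r : band (Rule.ok (2 * 7) EX RL ⟨1 :: [6, 1, 6], [], 4, false⟩) (lall (memL L) [6, 1, 6]) = true := by decide +kernel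

theorem rot1_6 : T.rot 1 [7, 1, 7] (sel (ones 8330) ip1 6) = true := by decide +kernel

theorem rot1_6r : band (Rule.ok (2 * 7) EX RL ⟨1 :: [7, 1, 7], [], 5, false⟩) (lall (memL L) [7, 1, 7]) = true := by decide +kernel

theorem rot1_7 : T.rot 1 [2, 1, 13, 2] (sel (ones 8330) ip1 7) = true := by decide +kernel

theorem rot1_7r : band (Rule.ok (2 * 7) EX RL ⟨1 :: [2, 1, 13, 2], [], 25, false⟩) (lall (memL L) [2, 1, 13, 2]) = true := by decide +kernel

theorem rot1_8 : T.rot 1 [2, 1, 2, 1, 2, 1, 2] (sel (ones 8330) ip1 8) = true := by decide +kernel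

theorem rot1_8r : band (Rule.ok (2 * 7) EX RL ⟨1 :: [2, 1, 2, 1, 2, 1, 2], [], 0, false⟩) (lall (memL L) [2, 1, 2, 1, 2, 1, 2]) = true := by decide +kernel

theorem rot1_9 : T.rot 1 [2, 3, 1, 2, 3, 1, 2, 3, 5] (sel (ones 8330) ip1 9) = true := by decide +kernel

theorem rot1_9r : band (Rule.ok (2 * 7) EX RL ⟨1 :: [2, 3, 1, 2, 3, 1, 2, 3, 5], [], 22, true⟩) (lall (memL L) [2, 3, 1, 2, 3, 1, 2, 3, 5]) = true := by decide +kernel

theorem rot1_10 : T.rot 1 [2, 3, 1, 2, 3, 5, 1, 2, 3] (sel (ones 8330) ip1 10) = true := by decide +kernel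

theorem rot1_10r : band (Rule.ok (2 * 7) EX RL ⟨1 :: [2, 3, 1, 2, 3, 5, 1, 2, 3], [0, 2, 4], 22, true⟩) (lall (memL L) [2, 3, 1, 2, 3, 5, 1, 2, 3]) = true := by decide +kernel

theorem rot1_11 : T.rot 1 [2, 3, 5, 1, 2, 3, 1, 2, 3] (sel (ones 8330) ip1 11) = true := by decide +kernel

theorem rot1_11r : band (Rule.ok (2 * 7) EX RL ⟨1 :: [2, 3, 5, 1, 2, 3, 1, 2, 3], [8, 4, 2, 0], 22, true⟩) (lall (memL L) [2, 3, 5, 1, 2, 3, 1, 2, 3]) = true := by decide +kernel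

theorem rot1_12 : T.rot 1 [3, 2, 1, 3, 2, 1, 5, 3, 2] (sel (ones 8330) ip1 12) = true := by decide +kernel

theorem rot1_12r : band (Rule.ok (2 * 7) EX RL ⟨1 :: [3, 2, 1, 3, 2, 1, 5, 3, 2], [8, 4, 2], 22, false⟩) (lall (memL L) [3, 2, 1, 3, 2, 1, 5, 3, 2]) = true := by decide +kernel

theorem rot1_13 : T.rot 1 [3, 2, 1, 5, 3, 2, 1, 3, 2] (sel (ones 8330) ip1 13) = true := by decide +kernel

theorem rot1_13r : band (Rule.ok (2 * 7) EX RL ⟨1 :: [3, 2, 1, 5, 3, 2, 1, 3, 2], [0, 2, 4, 0], 22, false⟩) (lall (memL L) [3, 2, 1, 5, 3, 2, 1, 3, 2]) = true := by decide +kernel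

theorem rot1_14 : T.rot 1 [5, 3, 2, 1, 3, 2, 1, 3, 2] (sel (ones 8330) ip1 14) = true := by decide +kernel

theorem rot1_14r : band (Rule.ok (2 * 7) EX RL ⟨1 :: [5, 3, 2, 1, 3, 2, 1, 3, 2], [0], 22, false⟩) (lall (memL L) [5, 3, 2, 1, 3, 2, 1, 3, 2]) = true := by decide +kernel

theorem rot1_15 : T.rot 1 [3, 4, 3, 4, 3, 4, 3, 4, 3, 4] (sel (ones 8330) ip1 15) = true := by decide +kernel

theorem rot1_15r : band (Rule.ok (2 * 7) EX RL ⟨1 :: [3, 4, 3, 4, 3, 4, 3, 4, 3, 4], [0], 23, true⟩) (lall (memL L) [3, 4, 3, 4, 3, 4, 3, 4, 3, 4]) = true := by decide +kernel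

theorem rot1_16 : T.rot 1 [4, 3, 4, 3, 4, 3, 4, 3, 4, 3] (sel (ones 8330) ip1 16) = true := by decide +kernel

theorem rot1_16r : band (Rule.ok (2 * 7) EX RL ⟨1 :: [4, 3, 4, 3, 4, 3, 4, 3, 4, 3], [], 23, false⟩) (lall (memL L) [4, 3, 4, 3, 4, 3, 4, 3, 4, 3]) = true := by decide +kernel

theorem cov1 : T.cover 1 [(sel (ones 8330) ip1 1), (sel (ones 8330) ip1 2), (sel (ones 8330) ip1 3), (sel (ones 8330) ip1 4), (sel (ones 8330) ip1 5), (sel (ones 8330) ip1 6), (sel (ones 8330) ip1 7), (sel (ones 8330) ip1 8), (sel (ones 8330) ip1 9), (sel (ones 8330) ip1 10), (sel (ones 8330) ip1 11), (sel (ones 8330) ip1 12), (sel (ones 8330) ip1 13), (sel (ones 8330) ip1 14), (sel (ones 8330) ip1 15), (sel (ones 8330) ip1 16), 1] = true := by decide +kernel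

theorem tl1 : T.treeLt 14 1 = true := by decide +kernel

theorem rot2_1 : T.rot 2 [2] (sel (ones 8330) ip2 1) = true := by decide +kernel

theorem rot2_1r : band (Rule.ok (2 * 7) EX RL ⟨2 :: [2], [], 25, false⟩) (lall (memL L) [2]) = true := by decide +kernel

theorem rot2_2 : T.rot 2 [4, 2, 4] (sel (ones 8330) ip2 2) = true := by decide +kernel

theorem rot2_2r : band (Rule.ok (2 * 7) EX RL ⟨2 :: [4, 2, 4], [], 7, false⟩) (lall (memL L) [4, 2, 4]) = true := by decide +kernel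

theorem rot2_3 : T.rot 2 [5, 2, 5] (sel (ones 8330) ip2 3) = true := by decide +kernel

theorem rot2_3r : band (Rule.ok (2 * 7) EX RL ⟨2 :: [5, 2, 5], [], 8, false⟩) (lall (memL L) [5, 2, 5]) = true := by decide +kernel

theorem rot2_4 : T.rot 2 [6, 2, 6] (sel (ones 8330) ip2 4) = true := by decide +kernel

theorem rot2_4r : band (Rule.ok (2 * 7) EX RL ⟨2 :: [6, 2, 6], [], 9, false⟩) (lall (memL L) [6, 2, 6]) = true := by decide +kernel

theorem rot2_5 : T.rot 2 [7, 2, 7] (sel (ones 8330) ip2 5) = true := by decide +kernel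

theorem rot2_5r : band (Rule.ok (2 * 7) EX RL ⟨2 :: [7, 2, 7], [], 10, false⟩) (lall (memL L) [7, 2, 7]) = true := by decide +kernel

theorem rot2_6 : T.rot 2 [3, 2, 3, 2, 3] (sel (ones 8330) ip2 6) = true := by decide +kernel

theorem rot2_6r : band (Rule.ok (2 * 7) EX RL ⟨2 :: [3, 2, 3, 2, 3], [], 6, false⟩) (lall (memL L) [3, 2, 3, 2, 3]) = true := by decide +kernel

theorem rot2_7 : T.rot 2 [1, 2, 1, 2, 1, 2, 1] (sel (ones 8330) ip2 7) = true := by decide +kernel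

theorem rot2_7r : band (Rule.ok (2 * 7) EX RL ⟨2 :: [1, 2, 1, 2, 1, 2, 1], [], 0, true⟩) (lall (memL L) [1, 2, 1, 2, 1, 2, 1]) = true := by decide +kernel

theorem rot2_8 : T.rot 2 [3, 1, 2, 3, 1, 2, 3, 5, 1] (sel (ones 8330) ip2 8) = true := by decide +kernel

theorem rot2_8r : band (Rule.ok (2 * 7) EX RL ⟨2 :: [3, 1, 2, 3, 1, 2, 3, 5, 1], [0], 22, true⟩) (lall (memL L) [3, 1, 2, 3, 1, 2, 3, 5, 1]) = true := by decide +kernel

theorem rot2_9 : T.rot 2 [3, 1, 2, 3, 5, 1, 2, 3, 1] (sel (ones 8330) ip2 9) = true := by decide +kernel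

theorem rot2_9r : band (Rule.ok (2 * 7) EX RL ⟨2 :: [3, 1, 2, 3, 5, 1, 2, 3, 1], [0, 2, 4, 0], 22, true⟩) (lall (memL L) [3, 1, 2, 3, 5, 1, 2, 3, 1]) = true := by decide +kernel

theorem rot2_10 : T.rot 2 [3, 5, 1, 2, 3, 1, 2, 3, 1] (sel (ones 8330) ip2 10) = true := by decide +kernel

theorem rot2_10r : band (Rule.ok (2 * 7) EX RL ⟨2 :: [3, 5, 1, 2, 3, 1, 2, 3, 1], [8, 4, 2], 22, true⟩) (lall (memL L) [3, 5, 1, 2, 3, 1, 2, 3, 1]) = true := by decide +kernel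

theorem rot2_11 : T.rot 2 [1, 3, 2, 1, 3, 2, 1, 5, 3] (sel (ones 8330) ip2 11) = true := by decide +kernel

theorem rot2_11r : band (Rule.ok (2 * 7) EX RL ⟨2 :: [1, 3, 2, 1, 3, 2, 1, 5, 3], [8, 4], 22, false⟩) (lall (memL L) [1, 3, 2, 1, 3, 2, 1, 5, 3]) = true := by decide +kernel

theorem rot2_12 : T.rot 2 [1, 3, 2, 1, 5, 3, 2, 1, 3] (sel (ones 8330) ip2 12) = true := by decide +kernel

theorem rot2_12r : band (Rule.ok (2 * 7) EX RL ⟨2 :: [1, 3, 2, 1, 5, 3, 2, 1, 3], [0, 2, 4, 0, 2], 22, false⟩) (lall (memL L) [1, 3, 2, 1, 5, 3, 2, 1, 3]) = true := by decide +kernel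

theorem rot2_13 : T.rot 2 [1, 5, 3, 2, 1, 3, 2, 1, 3] (sel (ones 8330) ip2 13) = true := by decide +kernel

theorem rot2_13r : band (Rule.ok (2 * 7) EX RL ⟨2 :: [1, 5, 3, 2, 1, 3, 2, 1, 3], [0, 2], 22, false⟩) (lall (memL L) [1, 5, 3, 2, 1, 3, 2, 1, 3]) = true := by decide +kernel

theorem cov2 : T.cover 2 [(sel (ones 8330) ip2 1), (sel (ones 8330) ip2 2), (sel (ones 8330) ip2 3), (sel (ones 8330) ip2 4), (sel (ones 8330) ip2 5), (sel (ones 8330) ip2 6), (sel (ones 8330) ip2 7), (sel (ones 8330) ip2 8), (sel (ones 8330) ip2 9), (sel (ones 8330) ip2 10), (sel (ones 8330) ip2 11), (sel (ones 8330) ip2 12), (sel (ones 8330) ip2 13)] = true := by decide +kernel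

theorem tl2 : T.treeLt 14 2 = true := by decide +kernel

theorem rot3_1 : T.rot 3 [3] (sel (ones 8330) ip3 1) = true := by decide +kernel

theorem rot3_1r : band (Rule.ok (2 * 7) EX RL ⟨3 :: [3], [], 25, false⟩) (lall (memL L) [3]) = true := by decide +kernel

theorem rot3_2 : T.rot 3 [1, 3, 1] (sel (ones 8330) ip3 2) = true := by decide +kernel

theorem rot3_2r : band (Rule.ok (2 * 7) EX RL ⟨3 :: [1, 3, 1], [], 1, true⟩) (lall (memL L) [1, 3, 1]) = true := by decide +kernel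

theorem rot3_3 : T.rot 3 [5, 3, 5] (sel (ones 8330) ip3 3) = true := by decide +kernel

theorem rot3_3r : band (Rule.ok (2 * 7) EX RL ⟨3 :: [5, 3, 5], [], 12, false⟩) (lall (memL L) [5, 3, 5]) = true := by decide +kernel

theorem rot3_4 : T.rot 3 [6, 3, 6] (sel (ones 8330) ip3 4) = true := by decide +kernel

theorem rot3_4r : band (Rule.ok (2 * 7) EX RL ⟨3 :: [6, 3, 6], [], 13, false⟩) (lall (memL L) [6, 3, 6]) = true := by decide +kernel

theorem rot3_5 : T.rot 3 [7, 3, 7] (sel (ones 8330) ip3 5) = true := by decide +kernel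

theorem rot3_5r : band (Rule.ok (2 * 7) EX RL ⟨3 :: [7, 3, 7], [], 14, false⟩) (lall (memL L) [7, 3, 7]) = true := by decide +kernel

theorem rot3_6 : T.rot 3 [2, 3, 2, 3, 2] (sel (ones 8330) ip3 6) = true := by decide +kernel

theorem rot3_6r : band (Rule.ok (2 * 7) EX RL ⟨3 :: [2, 3, 2, 3, 2], [], 6, true⟩) (lall (memL L) [2, 3, 2, 3, 2]) = true := by decide +kernel

theorem rot3_7 : T.rot 3 [1, 2, 3, 1, 2, 3, 5, 1, 2] (sel (ones 8330) ip3 7) = true := by decide +kernel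

theorem rot3_7r : band (Rule.ok (2 * 7) EX RL ⟨3 :: [1, 2, 3, 1, 2, 3, 5, 1, 2], [0, 2], 22, true⟩) (lall (memL L) [1, 2, 3, 1, 2, 3, 5, 1, 2]) = true := by decide +kernel

theorem rot3_8 : T.rot 3 [1, 2, 3, 5, 1, 2, 3, 1, 2] (sel (ones 8330) ip3 8) = true := by decide +kernel

theorem rot3_8r : band (Rule.ok (2 * 7) EX RL ⟨3 :: [1, 2, 3, 5, 1, 2, 3, 1, 2], [8, 4, 2, 0, 4], 22, true⟩) (lall (memL L) [1, 2, 3, 5, 1, 2, 3, 1, 2]) = true := by decide +kernel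

theorem rot3_9 : T.rot 3 [5, 1, 2, 3, 1, 2, 3, 1, 2] (sel (ones 8330) ip3 9) = true := by decide +kernel

theorem rot3_9r : band (Rule.ok (2 * 7) EX RL ⟨3 :: [5, 1, 2, 3, 1, 2, 3, 1, 2], [8, 4], 22, true⟩) (lall (memL L) [5, 1, 2, 3, 1, 2, 3, 1, 2]) = true := by decide +kernel

theorem rot3_10 : T.rot 3 [2, 1, 3, 2, 1, 3, 2, 1, 5] (sel (ones 8330) ip3 10) = true := by decide +kernel

theorem rot3_10r : band (Rule.ok (2 * 7) EX RL ⟨3 :: [2, 1, 3, 2, 1, 3, 2, 1, 5], [8], 22, false⟩) (lall (memL L) [2, 1, 3, 2, 1, 3, 2, 1, 5]) = true := by decide +kernel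

theorem rot3_11 : T.rot 3 [2, 1, 3, 2, 1, 5, 3, 2, 1] (sel (ones 8330) ip3 11) = true := by decide +kernel

theorem rot3_11r : band (Rule.ok (2 * 7) EX RL ⟨3 :: [2, 1, 3, 2, 1, 5, 3, 2, 1], [8, 4, 2, 0], 22, false⟩) (lall (memL L) [2, 1, 3, 2, 1, 5, 3, 2, 1]) = true := by decide +kernel

theorem rot3_12 : T.rot 3 [2, 1, 5, 3, 2, 1, 3, 2, 1] (sel (ones 8330) ip3 12) = true := by decide +kernel

theorem rot3_12r : band (Rule.ok (2 * 7) EX RL ⟨3 :: [2, 1, 5, 3, 2, 1, 3, 2, 1], [0, 2, 4], 22, false⟩) (lall (memL L) [2, 1, 5, 3, 2, 1, 3, 2, 1]) = true := by decide +kernel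

theorem rot3_13 : T.rot 3 [4, 3, 4, 3, 4, 3, 4, 3, 4, 1] (sel (ones 8330) ip3 13) = true := by decide +kernel

theorem rot3_13r : band (Rule.ok (2 * 7) EX RL ⟨3 :: [4, 3, 4, 3, 4, 3, 4, 3, 4, 1], [], 23, true⟩) (lall (memL L) [4, 3, 4, 3, 4, 3, 4, 3, 4, 1]) = true := by decide +kernel

theorem rot3_14 : T.rot 3 [4, 3, 4, 3, 4, 3, 4, 1, 3, 4] (sel (ones 8330) ip3 14) = true := by decide +kernel

theorem rot3_14r : band (Rule.ok (2 * 7) EX RL ⟨3 :: [4, 3, 4, 3, 4, 3, 4, 1, 3, 4], [4, 6], 23, true⟩) (lall (memL L) [4, 3, 4, 3, 4, 3, 4, 1, 3, 4]) = true := by decide +kernel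

theorem rot3_15 : T.rot 3 [4, 3, 4, 3, 4, 1, 3, 4, 3, 4] (sel (ones 8330) ip3 15) = true := by decide +kernel

theorem rot3_15r : band (Rule.ok (2 * 7) EX RL ⟨3 :: [4, 3, 4, 3, 4, 1, 3, 4, 3, 4], [4, 6, 4, 6], 23, true⟩) (lall (memL L) [4, 3, 4, 3, 4, 1, 3, 4, 3, 4]) = true := by decide +kernel

theorem rot3_16 : T.rot 3 [4, 3, 4, 1, 3, 4, 3, 4, 3, 4] (sel (ones 8330) ip3 16) = true := by decide +kernel

theorem rot3_16r : band (Rule.ok (2 * 7) EX RL ⟨3 :: [4, 3, 4, 1, 3, 4, 3, 4, 3, 4], [0, 6, 4, 6, 4], 23, true⟩) (lall (memL L) [4, 3, 4, 1, 3, 4, 3, 4, 3, 4]) = true := by decide +kernel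

theorem rot3_17 : T.rot 3 [4, 1, 3, 4, 3, 4, 3, 4, 3, 4] (sel (ones 8330) ip3 17) = true := by decide +kernel

theorem rot3_17r : band (Rule.ok (2 * 7) EX RL ⟨3 :: [4, 1, 3, 4, 3, 4, 3, 4, 3, 4], [0, 6, 4], 23, true⟩) (lall (memL L) [4, 1, 3, 4, 3, 4, 3, 4, 3, 4]) = true := by decide +kernel

theorem rot3_18 : T.rot 3 [4, 3, 4, 3, 4, 3, 4, 3, 1, 4] (sel (ones 8330) ip3 18) = true := by decide +kernel

theorem rot3_18r : band (Rule.ok (2 * 7) EX RL ⟨3 :: [4, 3, 4, 3, 4, 3, 4, 3, 1, 4], [0, 6], 23, false⟩) (lall (memL L) [4, 3, 4, 3, 4, 3, 4, 3, 1, 4]) = true := by decide +kernel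

theorem rot3_19 : T.rot 3 [4, 3, 4, 3, 4, 3, 1, 4, 3, 4] (sel (ones 8330) ip3 19) = true := by decide +kernel

theorem rot3_19r : band (Rule.ok (2 * 7) EX RL ⟨3 :: [4, 3, 4, 3, 4, 3, 1, 4, 3, 4], [0, 6, 4, 6], 23, false⟩) (lall (memL L) [4, 3, 4, 3, 4, 3, 1, 4, 3, 4]) = true := by decide +kernel

theorem rot3_20 : T.rot 3 [4, 3, 4, 3, 1, 4, 3, 4, 3, 4] (sel (ones 8330) ip3 20) = true := by decide +kernel

theorem rot3_20r : band (Rule.ok (2 * 7) EX RL ⟨3 :: [4, 3, 4, 3, 1, 4, 3, 4, 3, 4], [4, 6, 4, 6, 4], 23, false⟩) (lall (memL L) [4, 3, 4, 3, 1, 4, 3, 4, 3, 4]) = true := by decide +kernel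

theorem rot3_21 : T.rot 3 [4, 3, 1, 4, 3, 4, 3, 4, 3, 4] (sel (ones 8330) ip3 21) = true := by decide +kernel

theorem rot3_21r : band (Rule.ok (2 * 7) EX RL ⟨3 :: [4, 3, 1, 4, 3, 4, 3, 4, 3, 4], [4, 6, 4], 23, false⟩) (lall (memL L) [4, 3, 1, 4, 3, 4, 3, 4, 3, 4]) = true := by decide +kernel

theorem rot3_22 : T.rot 3 [1, 4, 3, 4, 3, 4, 3, 4, 3, 4] (sel (ones 8330) ip3 22) = true := by decide +kernel

theorem rot3_22r : band (Rule.ok (2 * 7) EX RL ⟨3 :: [1, 4, 3, 4, 3, 4, 3, 4, 3, 4], [4], 23, false⟩) (lall (memL L) [1, 4, 3, 4, 3, 4, 3, 4, 3, 4]) = true := by decide +kernel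

theorem rot3_23 : T.rot 3 [2, 5, 4, 8, 11, 2, 8, 4, 3, 4] (sel (ones 8330) ip3 23) = true := by decide +kernel

theorem rot3_23r : band (Rule.ok (2 * 7) EX RL ⟨3 :: [2, 5, 4, 8, 11, 2, 8, 4, 3, 4], [], 25, false⟩) (lall (memL L) [2, 5, 4, 8, 11, 2, 8, 4, 3, 4]) = true := by decide +kernel

theorem rot3_24 : T.rot 3 [4, 3, 4, 9, 2, 10, 9, 4, 5, 2] (sel (ones 8330) ip3 24) = true := by decide +kernel

theorem rot3_24r : band (Rule.ok (2 * 7) EX RL ⟨3 :: [4, 3, 4, 9, 2, 10, 9, 4, 5, 2], [], 25, false⟩) (lall (memL L) [4, 3, 4, 9, 2, 10, 9, 4, 5, 2]) = true := by decide +kernel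

theorem rot3_25 : T.rot 3 [7, 6, 4, 3, 7, 6, 4, 3, 7, 6, 4, 3, 7, 6, 4] (sel (ones 8330) ip3 25) = true := by decide +kernel

theorem rot3_25r : band (Rule.ok (2 * 7) EX RL ⟨3 :: [7, 6, 4, 3, 7, 6, 4, 3, 7, 6, 4, 3, 7, 6, 4], [4], 24, true⟩) (lall (memL L) [7, 6, 4, 3, 7, 6, 4, 3, 7, 6, 4, 3, 7, 6, 4]) = true := by decide +kernel

theorem rot3_26 : T.rot 3 [4, 6, 7, 3, 4, 6, 7, 3, 4, 6, 7, 3, 4, 6, 7] (sel (ones 8330) ip3 26) = true := by decide +kernel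

theorem rot3_26r : band (Rule.ok (2 * 7) EX RL ⟨3 :: [4, 6, 7, 3, 4, 6, 7, 3, 4, 6, 7, 3, 4, 6, 7], [], 24, false⟩) (lall (memL L) [4, 6, 7, 3, 4, 6, 7, 3, 4, 6, 7, 3, 4, 6, 7]) = true := by decide +kernel

theorem rot3_27 : T.rot 3 [4, 3, 4, 3, 4, 3, 4, 3, 4, 3, 4, 3, 4, 3, 4, 3, 4, 3, 4] (sel (ones 8330) ip3 27) = true := by decide +kernel

theorem rot3_27r : band (Rule.ok (2 * 7) EX RL ⟨3 :: [4, 3, 4, 3, 4, 3, 4, 3, 4, 3, 4, 3, 4, 3, 4, 3, 4, 3, 4], [], 11, false⟩) (lall (memL L) [4, 3, 4, 3, 4, 3, 4, 3, 4, 3, 4, 3, 4, 3, 4, 3, 4, 3, 4]) = true := by decide +kernel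

theorem cov3 : T.cover 3 [(sel (ones 8330) ip3 1), (sel (ones 8330) ip3 2), (sel (ones 8330) ip3 3), (sel (ones 8330) ip3 4), (sel (ones 8330) ip3 5), (sel (ones 8330) ip3 6), (sel (ones 8330) ip3 7), (sel (ones 8330) ip3 8), (sel (ones 8330) ip3 9), (sel (ones 8330) ip3 10), (sel (ones 8330) ip3 11), (sel (ones 8330) ip3 12), (sel (ones 8330) ip3 13), (sel (ones 8330) ip3 14), (sel (ones 8330) ip3 15), (sel (ones 8330) ip3 16), (sel (ones 8330) ip3 17), (sel (ones 8330) ip3 18), (sel (ones 8330) ip3 19), (sel (ones 8330) ip3 20), (sel (ones 8330) ip3 21), (sel (ones 8330) ip3 22), (sel (ones 8330) ip3 23), (sel (ones 8330) ip3 24), (sel (ones 8330) ip3 25), (sel (ones 8330) ip3 26), (sel (ones 8330) ip3 27), 1] = true := by decide +kernel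

theorem tl3 : T.treeLt 14 3 = true := by decide +kernel

theorem rot4_1 : T.rot 4 [4] (sel (ones 8330) ip4 1) = true := by decide +kernel

theorem rot4_1r : band (Rule.ok (2 * 7) EX RL ⟨4 :: [4], [], 25, false⟩) (lall (memL L) [4]) = true := by decide +kernel

theorem rot4_2 : T.rot 4 [1, 4, 1] (sel (ones 8330) ip4 2) = true := by decide +kernel

theorem rot4_2r : band (Rule.ok (2 * 7) EX RL ⟨4 :: [1, 4, 1], [], 2, true⟩) (lall (memL L) [1, 4, 1]) = true := by decide +kernel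

theorem rot4_3 : T.rot 4 [2, 4, 2] (sel (ones 8330) ip4 3) = true := by decide +kernel

theorem rot4_3r : band (Rule.ok (2 * 7) EX RL ⟨4 :: [2, 4, 2], [], 7, true⟩) (lall (memL L) [2, 4, 2]) = true := by decide +kernel

theorem rot4_4 : T.rot 4 [5, 4, 5, 4, 5] (sel (ones 8330) ip4 4) = true := by decide +kernel

theorem rot4_4r : band (Rule.ok (2 * 7) EX RL ⟨4 :: [5, 4, 5, 4, 5], [], 15, false⟩) (lall (memL L) [5, 4, 5, 4, 5]) = true := by decide +kernel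

theorem rot4_5 : T.rot 4 [6, 4, 6, 4, 6] (sel (ones 8330) ip4 5) = true := by decide +kernel

theorem rot4_5r : band (Rule.ok (2 * 7) EX RL ⟨4 :: [6, 4, 6, 4, 6], [], 16, false⟩) (lall (memL L) [6, 4, 6, 4, 6]) = true := by decide +kernel

theorem rot4_6 : T.rot 4 [7, 4, 7, 4, 7] (sel (ones 8330) ip4 6) = true := by decide +kernel

theorem rot4_6r : band (Rule.ok (2 * 7) EX RL ⟨4 :: [7, 4, 7, 4, 7], [], 17, false⟩) (lall (memL L) [7, 4, 7, 4, 7]) = true := by decide +kernel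

theorem rot4_7 : T.rot 4 [3, 4, 3, 4, 3, 4, 3, 4, 1, 3] (sel (ones 8330) ip4 7) = true := by decide +kernel

theorem rot4_7r : band (Rule.ok (2 * 7) EX RL ⟨4 :: [3, 4, 3, 4, 3, 4, 3, 4, 1, 3], [4], 23, true⟩) (lall (memL L) [3, 4, 3, 4, 3, 4, 3, 4, 1, 3]) = true := by decide +kernel

theorem rot4_8 : T.rot 4 [3, 4, 3, 4, 3, 4, 1, 3, 4, 3] (sel (ones 8330) ip4 8) = true := by decide +kernel

theorem rot4_8r : band (Rule.ok (2 * 7) EX RL ⟨4 :: [3, 4, 3, 4, 3, 4, 1, 3, 4, 3], [4, 6, 4], 23, true⟩) (lall (memL L) [3, 4, 3, 4, 3, 4, 1, 3, 4, 3]) = true := by decide +kernel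

theorem rot4_9 : T.rot 4 [3, 4, 3, 4, 1, 3, 4, 3, 4, 3] (sel (ones 8330) ip4 9) = true := by decide +kernel

theorem rot4_9r : band (Rule.ok (2 * 7) EX RL ⟨4 :: [3, 4, 3, 4, 1, 3, 4, 3, 4, 3], [4, 6, 4, 6, 4], 23, true⟩) (lall (memL L) [3, 4, 3, 4, 1, 3, 4, 3, 4, 3]) = true := by decide +kernel

theorem rot4_10 : T.rot 4 [3, 4, 1, 3, 4, 3, 4, 3, 4, 3] (sel (ones 8330) ip4 10) = true := by decide +kernel

theorem rot4_10r : band (Rule.ok (2 * 7) EX RL ⟨4 :: [3, 4, 1, 3, 4, 3, 4, 3, 4, 3], [0, 6, 4, 6], 23, true⟩) (lall (memL L) [3, 4, 1, 3, 4, 3, 4, 3, 4, 3]) = true := by decide +kernel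

theorem rot4_11 : T.rot 4 [1, 3, 4, 3, 4, 3, 4, 3, 4, 3] (sel (ones 8330) ip4 11) = true := by decide +kernel

theorem rot4_11r : band (Rule.ok (2 * 7) EX RL ⟨4 :: [1, 3, 4, 3, 4, 3, 4, 3, 4, 3], [0, 6], 23, true⟩) (lall (memL L) [1, 3, 4, 3, 4, 3, 4, 3, 4, 3]) = true := by decide +kernel

theorem rot4_12 : T.rot 4 [3, 4, 3, 4, 3, 4, 3, 4, 3, 1] (sel (ones 8330) ip4 12) = true := by decide +kernel

theorem rot4_12r : band (Rule.ok (2 * 7) EX RL ⟨4 :: [3, 4, 3, 4, 3, 4, 3, 4, 3, 1], [0], 23, false⟩) (lall (memL L) [3, 4, 3, 4, 3, 4, 3, 4, 3, 1]) = true := by decide +kernel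

theorem rot4_13 : T.rot 4 [3, 4, 3, 4, 3, 4, 3, 1, 4, 3] (sel (ones 8330) ip4 13) = true := by decide +kernel

theorem rot4_13r : band (Rule.ok (2 * 7) EX RL ⟨4 :: [3, 4, 3, 4, 3, 4, 3, 1, 4, 3], [0, 6, 4], 23, false⟩) (lall (memL L) [3, 4, 3, 4, 3, 4, 3, 1, 4, 3]) = true := by decide +kernel

theorem rot4_14 : T.rot 4 [3, 4, 3, 4, 3, 1, 4, 3, 4, 3] (sel (ones 8330) ip4 14) = true := by decide +kernel

theorem rot4_14r : band (Rule.ok (2 * 7) EX RL ⟨4 :: [3, 4, 3, 4, 3, 1, 4, 3, 4, 3], [0, 6, 4, 6, 4], 23, false⟩) (lall (memL L) [3, 4, 3, 4, 3, 1, 4, 3, 4, 3]) = true := by decide +kernel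

theorem rot4_15 : T.rot 4 [3, 4, 3, 1, 4, 3, 4, 3, 4, 3] (sel (ones 8330) ip4 15) = true := by decide +kernel

theorem rot4_15r : band (Rule.ok (2 * 7) EX RL ⟨4 :: [3, 4, 3, 1, 4, 3, 4, 3, 4, 3], [4, 6, 4, 6], 23, false⟩) (lall (memL L) [3, 4, 3, 1, 4, 3, 4, 3, 4, 3]) = true := by decide +kernel

theorem rot4_16 : T.rot 4 [3, 1, 4, 3, 4, 3, 4, 3, 4, 3] (sel (ones 8330) ip4 16) = true := by decide +kernel

theorem rot4_16r : band (Rule.ok (2 * 7) EX RL ⟨4 :: [3, 1, 4, 3, 4, 3, 4, 3, 4, 3], [4, 6], 23, false⟩) (lall (memL L) [3, 1, 4, 3, 4, 3, 4, 3, 4, 3]) = true := by decide +kernel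

theorem rot4_17 : T.rot 4 [3, 7, 6, 4, 3, 7, 6, 4, 3, 7, 6, 4, 3, 7, 6] (sel (ones 8330) ip4 17) = true := by decide +kernel

theorem rot4_17r : band (Rule.ok (2 * 7) EX RL ⟨4 :: [3, 7, 6, 4, 3, 7, 6, 4, 3, 7, 6, 4, 3, 7, 6], [4, 6], 24, true⟩) (lall (memL L) [3, 7, 6, 4, 3, 7, 6, 4, 3, 7, 6, 4, 3, 7, 6]) = true := by decide +kernel

theorem rot4_18 : T.rot 4 [6, 7, 3, 4, 6, 7, 3, 4, 6, 7, 3, 4, 6, 7, 3] (sel (ones 8330) ip4 18) = true := by decide +kernel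

theorem rot4_18r : band (Rule.ok (2 * 7) EX RL ⟨4 :: [6, 7, 3, 4, 6, 7, 3, 4, 6, 7, 3, 4, 6, 7, 3], [4], 24, false⟩) (lall (memL L) [6, 7, 3, 4, 6, 7, 3, 4, 6, 7, 3, 4, 6, 7, 3]) = true := by decide +kernel

theorem rot4_19 : T.rot 4 [3, 4, 3, 4, 3, 4, 3, 4, 3, 4, 3, 4, 3, 4, 3, 4, 3, 4, 3] (sel (ones 8330) ip4 19) = true := by decide +kernel

theorem rot4_19r : band (Rule.ok (2 * 7) EX RL ⟨4 :: [3, 4, 3, 4, 3, 4, 3, 4, 3, 4, 3, 4, 3, 4, 3, 4, 3, 4, 3], [], 11, true⟩) (lall (memL L) [3, 4, 3, 4, 3, 4, 3, 4, 3, 4, 3, 4, 3, 4, 3, 4, 3, 4, 3]) = true := by decide +kernel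

theorem cov4 : T.cover 4 [(sel (ones 8330) ip4 1), (sel (ones 8330) ip4 2), (sel (ones 8330) ip4 3), (sel (ones 8330) ip4 4), (sel (ones 8330) ip4 5), (sel (ones 8330) ip4 6), (sel (ones 8330) ip4 7), (sel (ones 8330) ip4 8), (sel (ones 8330) ip4 9), (sel (ones 8330) ip4 10), (sel (ones 8330) ip4 11), (sel (ones 8330) ip4 12), (sel (ones 8330) ip4 13), (sel (ones 8330) ip4 14), (sel (ones 8330) ip4 15), (sel (ones 8330) ip4 16), (sel (ones 8330) ip4 17), (sel (ones 8330) ip4 18), (sel (ones 8330) ip4 19), 1] = true := by decide +kernel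

theorem tl4 : T.treeLt 14 4 = true := by decide +kernel

theorem rot5_1 : T.rot 5 [5] (sel (ones 8330) ip5 1) = true := by decide +kernel

theorem rot5_1r : band (Rule.ok (2 * 7) EX RL ⟨5 :: [5], [], 25, false⟩) (lall (memL L) [5]) = true := by decide +kernel

theorem rot5_2 : T.rot 5 [1, 5, 1] (sel (ones 8330) ip5 2) = true := by decide +kernel

theorem rot5_2r : band (Rule.ok (2 * 7) EX RL ⟨5 :: [1, 5, 1], [], 3, true⟩) (lall (memL L) [1, 5, 1]) = true := by decide +kernel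

theorem rot5_3 : T.rot 5 [2, 5, 2] (sel (ones 8330) ip5 3) = true := by decide +kernel

theorem rot5_3r : band (Rule.ok (2 * 7) EX RL ⟨5 :: [2, 5, 2], [], 8, true⟩) (lall (memL L) [2, 5, 2]) = true := by decide +kernel

theorem rot5_4 : T.rot 5 [3, 5, 3] (sel (ones 8330) ip5 4) = true := by decide +kernel

theorem rot5_4r : band (Rule.ok (2 * 7) EX RL ⟨5 :: [3, 5, 3], [], 12, true⟩) (lall (memL L) [3, 5, 3]) = true := by decide +kernel

theorem rot5_5 : T.rot 5 [6, 5, 6] (sel (ones 8330) ip5 5) = true := by decide +kernel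

theorem rot5_5r : band (Rule.ok (2 * 7) EX RL ⟨5 :: [6, 5, 6], [], 18, false⟩) (lall (memL L) [6, 5, 6]) = true := by decide +kernel

theorem rot5_6 : T.rot 5 [7, 5, 7] (sel (ones 8330) ip5 6) = true := by decide +kernel

theorem rot5_6r : band (Rule.ok (2 * 7) EX RL ⟨5 :: [7, 5, 7], [], 19, false⟩) (lall (memL L) [7, 5, 7]) = true := by decide +kernel

theorem rot5_7 : T.rot 5 [6, 7, 6, 7] (sel (ones 8330) ip5 7) = true := by decide +kernel

theorem rot5_7r : band (Rule.ok (2 * 7) EX RL ⟨5 :: [6, 7, 6, 7], [8], 21, true⟩) (lall (memL L) [6, 7, 6, 7]) = true := by decide +kernel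

theorem rot5_8 : T.rot 5 [7, 6, 7, 6] (sel (ones 8330) ip5 8) = true := by decide +kernel

theorem rot5_8r : band (Rule.ok (2 * 7) EX RL ⟨5 :: [7, 6, 7, 6], [], 21, false⟩) (lall (memL L) [7, 6, 7, 6]) = true := by decide +kernel

theorem rot5_9 : T.rot 5 [4, 5, 4, 5, 4] (sel (ones 8330) ip5 9) = true := by decide +kernel

theorem rot5_9r : band (Rule.ok (2 * 7) EX RL ⟨5 :: [4, 5, 4, 5, 4], [], 15, true⟩) (lall (memL L) [4, 5, 4, 5, 4]) = true := by decide +kernel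

theorem rot5_10 : T.rot 5 [1, 2, 3, 1, 2, 3, 1, 2, 3] (sel (ones 8330) ip5 10) = true := by decide +kernel

theorem rot5_10r : band (Rule.ok (2 * 7) EX RL ⟨5 :: [1, 2, 3, 1, 2, 3, 1, 2, 3], [8], 22, true⟩) (lall (memL L) [1, 2, 3, 1, 2, 3, 1, 2, 3]) = true := by decide +kernel

theorem rot5_11 : T.rot 5 [3, 2, 1, 3, 2, 1, 3, 2, 1] (sel (ones 8330) ip5 11) = true := by decide +kernel

theorem rot5_11r : band (Rule.ok (2 * 7) EX RL ⟨5 :: [3, 2, 1, 3, 2, 1, 3, 2, 1], [], 22, false⟩) (lall (memL L) [3, 2, 1, 3, 2, 1, 3, 2, 1]) = true := by decide +kernel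

theorem cov5 : T.cover 5 [(sel (ones 8330) ip5 1), (sel (ones 8330) ip5 2), (sel (ones 8330) ip5 3), (sel (ones 8330) ip5 4), (sel (ones 8330) ip5 5), (sel (ones 8330) ip5 6), (sel (ones 8330) ip5 7), (sel (ones 8330) ip5 8), (sel (ones 8330) ip5 9), (sel (ones 8330) ip5 10), (sel (ones 8330) ip5 11), 1] = true := by decide +kernel

theorem tl5 : T.treeLt 14 5 = true := by decide +kernel

theorem rot6_1 : T.rot 6 [6] (sel (ones 8330) ip6 1) = true := by decide +kernel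

theorem rot6_1r : band (Rule.ok (2 * 7) EX RL ⟨6 :: [6], [], 25, false⟩) (lall (memL L) [6]) = true := by decide +kernel

theorem rot6_2 : T.rot 6 [1, 6, 1] (sel (ones 8330) ip6 2) = true := by decide +kernel

theorem rot6_2r : band (Rule.ok (2 * 7) EX RL ⟨6 :: [1, 6, 1], [], 4, true⟩) (lall (memL L) [1, 6, 1]) = true := by decide +kernel

theorem rot6_3 : T.rot 6 [2, 6, 2] (sel (ones 8330) ip6 3) = true := by decide +kernel

theorem rot6_3r : band (Rule.ok (2 * 7) EX RL ⟨6 :: [2, 6, 2], [], 9, true⟩) (lall (memL L) [2, 6, 2]) = true := by decide +kernel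

theorem rot6_4 : T.rot 6 [3, 6, 3] (sel (ones 8330) ip6 4) = true := by decide +kernel

theorem rot6_4r : band (Rule.ok (2 * 7) EX RL ⟨6 :: [3, 6, 3], [], 13, true⟩) (lall (memL L) [3, 6, 3]) = true := by decide +kernel

theorem rot6_5 : T.rot 6 [5, 6, 5] (sel (ones 8330) ip6 5) = true := by decide +kernel

theorem rot6_5r : band (Rule.ok (2 * 7) EX RL ⟨6 :: [5, 6, 5], [], 18, true⟩) (lall (memL L) [5, 6, 5]) = true := by decide +kernel

theorem rot6_6 : T.rot 6 [7, 6, 7, 5] (sel (ones 8330) ip6 6) = true := by decide +kernel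

theorem rot6_6r : band (Rule.ok (2 * 7) EX RL ⟨6 :: [7, 6, 7, 5], [], 21, true⟩) (lall (memL L) [7, 6, 7, 5]) = true := by decide +kernel

theorem rot6_7 : T.rot 6 [7, 5, 6, 7] (sel (ones 8330) ip6 7) = true := by decide +kernel

theorem rot6_7r : band (Rule.ok (2 * 7) EX RL ⟨6 :: [7, 5, 6, 7], [10, 12], 21, true⟩) (lall (memL L) [7, 5, 6, 7]) = true := by decide +kernel

theorem rot6_8 : T.rot 6 [7, 6, 5, 7] (sel (ones 8330) ip6 8) = true := by decide +kernel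

theorem rot6_8r : band (Rule.ok (2 * 7) EX RL ⟨6 :: [7, 6, 5, 7], [8, 12], 21, false⟩) (lall (memL L) [7, 6, 5, 7]) = true := by decide +kernel

theorem rot6_9 : T.rot 6 [5, 7, 6, 7] (sel (ones 8330) ip6 9) = true := by decide +kernel

theorem rot6_9r : band (Rule.ok (2 * 7) EX RL ⟨6 :: [5, 7, 6, 7], [10], 21, false⟩) (lall (memL L) [5, 7, 6, 7]) = true := by decide +kernel

theorem rot6_10 : T.rot 6 [4, 6, 4, 6, 4] (sel (ones 8330) ip6 10) = true := by decide +kernel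

theorem rot6_10r : band (Rule.ok (2 * 7) EX RL ⟨6 :: [4, 6, 4, 6, 4], [], 16, true⟩) (lall (memL L) [4, 6, 4, 6, 4]) = true := by decide +kernel

theorem rot6_11 : T.rot 6 [7, 6, 7, 6, 7, 6, 7] (sel (ones 8330) ip6 11) = true := by decide +kernel

theorem rot6_11r : band (Rule.ok (2 * 7) EX RL ⟨6 :: [7, 6, 7, 6, 7, 6, 7], [], 20, false⟩) (lall (memL L) [7, 6, 7, 6, 7, 6, 7]) = true := by decide +kernel

theorem rot6_12 : T.rot 6 [4, 3, 7, 6, 4, 3, 7, 6, 4, 3, 7, 6, 4, 3, 7] (sel (ones 8330) ip6 12) = true := by decide +kernel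

theorem rot6_12r : band (Rule.ok (2 * 7) EX RL ⟨6 :: [4, 3, 7, 6, 4, 3, 7, 6, 4, 3, 7, 6, 4, 3, 7], [12], 24, true⟩) (lall (memL L) [4, 3, 7, 6, 4, 3, 7, 6, 4, 3, 7, 6, 4, 3, 7]) = true := by decide +kernel

theorem rot6_13 : T.rot 6 [7, 3, 4, 6, 7, 3, 4, 6, 7, 3, 4, 6, 7, 3, 4] (sel (ones 8330) ip6 13) = true := by decide +kernel

theorem rot6_13r : band (Rule.ok (2 * 7) EX RL ⟨6 :: [7, 3, 4, 6, 7, 3, 4, 6, 7, 3, 4, 6, 7, 3, 4], [12, 10], 24, false⟩) (lall (memL L) [7, 3, 4, 6, 7, 3, 4, 6, 7, 3, 4, 6, 7, 3, 4]) = true := by decide +kernel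

theorem cov6 : T.cover 6 [(sel (ones 8330) ip6 1), (sel (ones 8330) ip6 2), (sel (ones 8330) ip6 3), (sel (ones 8330) ip6 4), (sel (ones 8330) ip6 5), (sel (ones 8330) ip6 6), (sel (ones 8330) ip6 7), (sel (ones 8330) ip6 8), (sel (ones 8330) ip6 9), (sel (ones 8330) ip6 10), (sel (ones 8330) ip6 11), (sel (ones 8330) ip6 12), (sel (ones 8330) ip6 13), 1] = true := by decide +kernel

theorem tl6 : T.treeLt 14 6 = true := by decide +kernel

theorem rot7_1 : T.rot 7 [7] (sel (ones 8330) ip7 1) = true := by decide +kernel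

theorem rot7_1r : band (Rule.ok (2 * 7) EX RL ⟨7 :: [7], [], 25, false⟩) (lall (memL L) [7]) = true := by decide +kernel

theorem rot7_2 : T.rot 7 [1, 7, 1] (sel (ones 8330) ip7 2) = true := by decide +kernel

theorem rot7_2r : band (Rule.ok (2 * 7) EX RL ⟨7 :: [1, 7, 1], [], 5, true⟩) (lall (memL L) [1, 7, 1]) = true := by decide +kernel

theorem rot7_3 : T.rot 7 [2, 7, 2] (sel (ones 8330) ip7 3) = true := by decide +kernel

theorem rot7_3r : band (Rule.ok (2 * 7) EX RL ⟨7 :: [2, 7, 2], [], 10, true⟩) (lall (memL L) [2, 7, 2]) = true := by decide +kernel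

theorem rot7_4 : T.rot 7 [3, 7, 3] (sel (ones 8330) ip7 4) = true := by decide +kernel

theorem rot7_4r : band (Rule.ok (2 * 7) EX RL ⟨7 :: [3, 7, 3], [], 14, true⟩) (lall (memL L) [3, 7, 3]) = true := by decide +kernel

theorem rot7_5 : T.rot 7 [5, 7, 5] (sel (ones 8330) ip7 5) = true := by decide +kernel

theorem rot7_5r : band (Rule.ok (2 * 7) EX RL ⟨7 :: [5, 7, 5], [], 19, true⟩) (lall (memL L) [5, 7, 5]) = true := by decide +kernel

theorem rot7_6 : T.rot 7 [6, 7, 5, 6] (sel (ones 8330) ip7 6) = true := by decide +kernel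

theorem rot7_6r : band (Rule.ok (2 * 7) EX RL ⟨7 :: [6, 7, 5, 6], [10], 21, true⟩) (lall (memL L) [6, 7, 5, 6]) = true := by decide +kernel

theorem rot7_7 : T.rot 7 [5, 6, 7, 6] (sel (ones 8330) ip7 7) = true := by decide +kernel

theorem rot7_7r : band (Rule.ok (2 * 7) EX RL ⟨7 :: [5, 6, 7, 6], [8, 12], 21, true⟩) (lall (memL L) [5, 6, 7, 6]) = true := by decide +kernel

theorem rot7_8 : T.rot 7 [6, 7, 6, 5] (sel (ones 8330) ip7 8) = true := by decide +kernel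

theorem rot7_8r : band (Rule.ok (2 * 7) EX RL ⟨7 :: [6, 7, 6, 5], [8], 21, false⟩) (lall (memL L) [6, 7, 6, 5]) = true := by decide +kernel

theorem rot7_9 : T.rot 7 [6, 5, 7, 6] (sel (ones 8330) ip7 9) = true := by decide +kernel

theorem rot7_9r : band (Rule.ok (2 * 7) EX RL ⟨7 :: [6, 5, 7, 6], [10, 12], 21, false⟩) (lall (memL L) [6, 5, 7, 6]) = true := by decide +kernel

theorem rot7_10 : T.rot 7 [4, 7, 4, 7, 4] (sel (ones 8330) ip7 10) = true := by decide +kernel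

theorem rot7_10r : band (Rule.ok (2 * 7) EX RL ⟨7 :: [4, 7, 4, 7, 4], [], 17, true⟩) (lall (memL L) [4, 7, 4, 7, 4]) = true := by decide +kernel

theorem rot7_11 : T.rot 7 [6, 7, 6, 7, 6, 7, 6] (sel (ones 8330) ip7 11) = true := by decide +kernel

theorem rot7_11r : band (Rule.ok (2 * 7) EX RL ⟨7 :: [6, 7, 6, 7, 6, 7, 6], [], 20, true⟩) (lall (memL L) [6, 7, 6, 7, 6, 7, 6]) = true := by decide +kernel

theorem rot7_12 : T.rot 7 [6, 4, 3, 7, 6, 4, 3, 7, 6, 4, 3, 7, 6, 4, 3] (sel (ones 8330) ip7 12) = true := by decide +kernel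

theorem rot7_12r : band (Rule.ok (2 * 7) EX RL ⟨7 :: [6, 4, 3, 7, 6, 4, 3, 7, 6, 4, 3, 7, 6, 4, 3], [], 24, true⟩) (lall (memL L) [6, 4, 3, 7, 6, 4, 3, 7, 6, 4, 3, 7, 6, 4, 3]) = true := by decide +kernel

theorem rot7_13 : T.rot 7 [3, 4, 6, 7, 3, 4, 6, 7, 3, 4, 6, 7, 3, 4, 6] (sel (ones 8330) ip7 13) = true := by decide +kernel

theorem rot7_13r : band (Rule.ok (2 * 7) EX RL ⟨7 :: [3, 4, 6, 7, 3, 4, 6, 7, 3, 4, 6, 7, 3, 4, 6], [12], 24, false⟩) (lall (memL L) [3, 4, 6, 7, 3, 4, 6, 7, 3, 4, 6, 7, 3, 4, 6]) = true := by decide +kernel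

theorem cov7 : T.cover 7 [(sel (ones 8330) ip7 1), (sel (ones 8330) ip7 2), (sel (ones 8330) ip7 3), (sel (ones 8330) ip7 4), (sel (ones 8330) ip7 5), (sel (ones 8330) ip7 6), (sel (ones 8330) ip7 7), (sel (ones 8330) ip7 8), (sel (ones 8330) ip7 9), (sel (ones 8330) ip7 10), (sel (ones 8330) ip7 11), (sel (ones 8330) ip7 12), (sel (ones 8330) ip7 13), 1] = true := by decide +kernel

theorem tl7 : T.treeLt 14 7 = true := by decide +kernel

theorem rot8_1 : T.rot 8 [2, 3, 4, 6, 5, 4, 3] (sel (ones 8330) ip8 1) = true := by decide +kernel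

theorem rot8_1r : band (Rule.ok (2 * 7) EX RL ⟨8 :: [2, 3, 4, 6, 5, 4, 3], [], 25, false⟩) (lall (memL L) [2, 3, 4, 6, 5, 4, 3]) = true := by decide +kernel

theorem cov8 : T.cover 8 [(sel (ones 8330) ip8 1)] = true := by decide +kernel

theorem tl8 : Nat.beq (T.let 8).tt 0 = true := by decide +kernel

theorem rot9_1 : T.rot 9 [3, 4, 5, 6, 4, 3, 2] (sel (ones 8330) ip9 1) = true := by decide +kernel

theorem rot9_1r : band (Rule.ok (2 * 7) EX RL ⟨9 :: [3, 4, 5, 6, 4, 3, 2], [], 25, false⟩) (lall (memL L) [3, 4, 5, 6, 4, 3, 2]) = true := by decide +kernel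

theorem cov9 : T.cover 9 [(sel (ones 8330) ip9 1)] = true := by decide +kernel

theorem tl9 : Nat.beq (T.let 9).tt 0 = true := by decide +kernel

theorem cov10 : T.cover 10 [1] = true := by decide +kernel

theorem tl10 : Nat.beq (T.let 10).tt 0 = true := by decide +kernel

theorem rot11_1 : T.rot 11 [10] (sel (ones 8330) ip11 1) = true := by decide +kernel

theorem rot11_1r : band (Rule.ok (2 * 7) EX RL ⟨11 :: [10], [], 25, false⟩) (lall (memL L) [10]) = true := by decide +kernel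

theorem cov11 : T.cover 11 [(sel (ones 8330) ip11 1)] = true := by decide +kernel

theorem tl11 : Nat.beq (T.let 11).tt 0 = true := by decide +kernel

theorem cov12 : T.cover 12 [1] = true := by decide +kernel

theorem tl12 : Nat.beq (T.let 12).tt 0 = true := by decide +kernel

theorem rot13_1 : T.rot 13 [12] (sel (ones 8330) ip13 1) = true := by decide +kernel

theorem rot13_1r : band (Rule.ok (2 * 7) EX RL ⟨13 :: [12], [], 25, false⟩) (lall (memL L) [12]) = true := by decide +kernel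

theorem cov13 : T.cover 13 [(sel (ones 8330) ip13 1)] = true := by decide +kernel

theorem tl13 : Nat.beq (T.let 13).tt 0 = true := by decide +kernel

end Cfsg.Agent.Spor.He8330
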